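import Groth.Agent.StrictHensBCLib.Integral
import Groth.Agent.QfHensFiniteLib.Main
import Mathlib.RingTheory.Adjoin.Tower
import Mathlib.RingTheory.TensorProduct.Maps

/-! Strict henselizations of ind-quasi-finite algebras are integral. -/

set_option autoImplicit false
set_option linter.style.haveILetI false
set_option maxHeartbeats 1600000
universe u

open IsLocalRing TensorProduct

namespace StrictHensBCLib

open PairHensLib QfHensFiniteLib

theorem exists_finset_mem_range {R S H : Type u} [CommRing R] [CommRing S] [CommRing H] [Algebra R S] [Algebra R H]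
    (d : H ⊗[R] S) : ∃ s : Finset S, ∀ B₀ : Subalgebra R S, (↑s : Set S) ⊆ ↑B₀ →
      d ∈ (Algebra.TensorProduct.map (AlgHom.id H H) B₀.val).range := by
  classical
  induction d using TensorProduct.induction_on with
  | zero => exact ⟨∅, fun _ _ => zero_mem _⟩
  | add x y hx hy =>
    obtain ⟨s, hs⟩ := hx
    obtain ⟨t, ht⟩ := hy
    refine ⟨s ∪ t, fun B₀ h => add_mem (hs B₀ ?_) (ht B₀ ?_)⟩
    · exact fun b hb => h (by simp [Finset.mem_coe.1 hb])
    · exact fun b hb => h (by simp [Finset.mem_coe.1 hb])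
  | tmul a b => exact ⟨{b}, fun B₀ h => ⟨a ⊗ₜ ⟨b, h (by simp)⟩, by simp⟩⟩

variable {R S Rh Sh : Type u} [CommRing R] [CommRing S] [Algebra R S] {p : Ideal R} [p.IsPrime] {q : Ideal S} [q.IsPrime]
  [hlo : q.LiesOver p] [CommRing Rh] [IsLocalRing Rh] [Algebra (Localization.AtPrime p) Rh]
  [IsLocalHom (algebraMap (Localization.AtPrime p) Rh)] [Algebra R Rh] [IsScalarTower R (Localization.AtPrime p) Rh]
  [CommRing Sh] [IsLocalRing Sh] [Algebra (Localization.AtPrime q) Sh]
  [IsLocalHom (algebraMap (Localization.AtPrime q) Sh)] [Algebra S Sh]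
  [IsScalarTower S (Localization.AtPrime q) Sh] [Algebra R Sh] [IsScalarTower R S Sh]
  [Algebra Rh Sh] [IsScalarTower R Rh Sh]

theorem isIntegral_tensorPrime [HenselianLocalRing Rh] [IsLocalHom (algebraMap Rh Sh)]
    (hB : ∀ s : Finset S, ∃ B₀ : Subalgebra R S, (↑s : Set S) ⊆ ↑B₀ ∧
      Algebra.FiniteType R ↥B₀ ∧ Algebra.QuasiFinite R ↥B₀) :
    Algebra.IsIntegral Rh (Localization.AtPrime (tensorPrime R S Rh Sh)) := by
  classical
  refine ⟨fun z => ?_⟩
  obtain ⟨x, ⟨y, hy⟩, rfl⟩ := IsLocalization.exists_mk'_eq (tensorPrime R S Rh Sh).primeCompl z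
  obtain ⟨s, hs⟩ := exists_finset_mem_range x
  obtain ⟨t, ht⟩ := exists_finset_mem_range y
  obtain ⟨B₀, hB₀, hft, hqf⟩ := hB (s ∪ t)
  haveI := hft
  haveI := hqf
  obtain ⟨x₀, rfl⟩ := hs B₀ fun b hb => hB₀ (by simp [Finset.mem_coe.1 hb])
  obtain ⟨y₀, rfl⟩ := ht B₀ fun b hb => hB₀ (by simp [Finset.mem_coe.1 hb])
  let h : Rh ⊗[R] B₀ →ₐ[Rh] Rh ⊗[R] S := Algebra.TensorProduct.map (AlgHom.id Rh Rh) B₀.val
  let Q₀ := (tensorPrime R S Rh Sh).comap h
  haveI : Q₀.IsPrime := Ideal.comap_isPrime h (tensorPrime R S Rh Sh)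
  haveI : Module.Finite Rh (Localization.AtPrime Q₀) := QfHensFiniteLib.finite_atPrime (A := Rh) Q₀ (by
    ext r
    show h (algebraMap Rh _ r) ∈ tensorPrime R S Rh Sh ↔ r ∈ maximalIdeal Rh
    rw [h.commutes]
    show (r ⊗ₜ[R] (1 : S)) ∈ tensorPrime R S Rh Sh ↔ _
    rw [Ideal.mem_comap, mulTensor_left, mem_maximalIdeal, mem_maximalIdeal, mem_nonunits_iff, mem_nonunits_iff,
      isUnit_map_iff (algebraMap Rh Sh)])
  let h' : Rh ⊗[R] B₀ →ₐ[Rh] Localization.AtPrime (tensorPrime R S Rh Sh) :=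
    (IsScalarTower.toAlgHom Rh (Rh ⊗[R] S) (Localization.AtPrime (tensorPrime R S Rh Sh))).comp h
  have hu : ∀ d : Q₀.primeCompl, IsUnit (h' d) := fun d =>
    IsLocalization.map_units (Localization.AtPrime (tensorPrime R S Rh Sh)) (⟨h d, d.2⟩ : (tensorPrime R S Rh Sh).primeCompl)
  let η : Localization.AtPrime Q₀ →ₐ[Rh] Localization.AtPrime (tensorPrime R S Rh Sh) := IsLocalization.liftAlgHom hu
  have heq : η (IsLocalization.mk' _ x₀ (⟨y₀, hy⟩ : Q₀.primeCompl)) =
      IsLocalization.mk' (Localization.AtPrime (tensorPrime R S Rh Sh)) (h x₀)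
        (⟨h y₀, hy⟩ : (tensorPrime R S Rh Sh).primeCompl) := by
    rw [IsLocalization.eq_mk'_iff_mul_eq]
    have e1 : ∀ w, η (algebraMap _ (Localization.AtPrime Q₀) w) = algebraMap _ _ (h w) := fun w => IsLocalization.lift_eq hu w
    rw [← e1, ← e1, ← map_mul, IsLocalization.mk'_spec]
  exact heq ▸ (Algebra.IsIntegral.isIntegral _).map η

include p q hlo in
theorem integral_strictHenselization [Hensel.IsStrictHenselization (Localization.AtPrime p) Rh]
    [Hensel.IsStrictHenselization (Localization.AtPrime q) Sh] [IsLocalHom (algebraMap Rh Sh)]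
    (hB : ∀ s : Finset S, ∃ B₀ : Subalgebra R S, (↑s : Set S) ⊆ ↑B₀ ∧
      Algebra.FiniteType R ↥B₀ ∧ Algebra.QuasiFinite R ↥B₀) :
    Algebra.IsIntegral Rh Sh ∧ IsPurelyInseparable (ResidueField Rh) (ResidueField Sh) := by
  haveI := Hensel.IsStrictHenselization.henselian (R := Localization.AtPrime p) (S := Rh)
  haveI := (Hensel.IsStrictHenselization.isSepClosure (R := Localization.AtPrime p) (S := Rh)).sep_closed
  haveI := isIntegral_tensorPrime (R := R) (S := S) (Rh := Rh) (Sh := Sh) hB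
  obtain ⟨hD, hD'⟩ := henselianLocalRing_of_integral (A := Rh) (Localization.AtPrime (tensorPrime R S Rh Sh))
  haveI := hD
  haveI := hD'
  haveI := (residueField_of_integral (A := Rh) (Localization.AtPrime (tensorPrime R S Rh Sh))).2
  haveI := isStrictHenselization_self (Localization.AtPrime (tensorPrime R S Rh Sh))
  obtain ⟨e, he⟩ := exists_equiv_strictHenselization (R := R) (S := S) (Rh := Rh) (Sh := Sh) (p := p) (q := q)
    (E := Localization.AtPrime (tensorPrime R S Rh Sh))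
  let e' : Localization.AtPrime (tensorPrime R S Rh Sh) ≃ₐ[Rh] Sh := AlgEquiv.ofRingEquiv (f := e) fun r => by
    have h1 := he (r ⊗ₜ (1 : S))
    rw [mulTensor_left, Algebra.algebraMap_self, RingHom.id_apply] at h1
    exact h1
  haveI : Algebra.IsIntegral Rh Sh := ⟨fun x => by
    obtain ⟨z, rfl⟩ := e'.surjective x
    exact (Algebra.IsIntegral.isIntegral z).map e'⟩
  exact ⟨inferInstance, (residueField_of_integral (A := Rh) Sh).1⟩

end StrictHensBCLib
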