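import Groth.Agent.StrictHensBCLib.Integral
import Mathlib.RingTheory.TensorProduct.Finite
import Mathlib.Algebra.CharP.Lemmas
import Mathlib.Algebra.CharP.Algebra

/-! Strict henselizations and tensor products. -/

set_option autoImplicit false
set_option linter.style.haveILetI false
set_option maxHeartbeats 3200000
set_option synthInstance.maxHeartbeats 400000
universe u

open IsLocalRing TensorProduct

namespace StrictHensBCLib

variable (A B C : Type u) [CommRing A] [CommRing B]
    [CommRing C] [Algebra A B] [Algebra A C]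
    (pB : Ideal B) [pB.IsPrime]
    (pC : Ideal C) [pC.IsPrime]
    (pD : Ideal (B ⊗[A] C)) [pD.IsPrime]
    (Ash : Type u) [CommRing Ash] [IsLocalRing Ash] [HenselianLocalRing Ash] [Algebra A Ash]
    (Bsh : Type u) [CommRing Bsh] [IsLocalRing Bsh] [Algebra (Localization.AtPrime pB) Bsh]
    [IsLocalHom (algebraMap (Localization.AtPrime pB) Bsh)]
    [Hensel.IsStrictHenselization (Localization.AtPrime pB) Bsh] [Algebra B Bsh]
    [IsScalarTower B (Localization.AtPrime pB) Bsh] [Algebra A Bsh] [IsScalarTower A B Bsh]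
    [Algebra Ash Bsh] [IsScalarTower A Ash Bsh] [IsLocalHom (algebraMap Ash Bsh)]
    (Csh : Type u) [CommRing Csh] [IsLocalRing Csh] [Algebra (Localization.AtPrime pC) Csh]
    [IsLocalHom (algebraMap (Localization.AtPrime pC) Csh)]
    [Hensel.IsStrictHenselization (Localization.AtPrime pC) Csh] [Algebra C Csh]
    [IsScalarTower C (Localization.AtPrime pC) Csh] [Algebra A Csh] [IsScalarTower A C Csh]
    [Algebra Ash Csh] [IsScalarTower A Ash Csh] [IsLocalHom (algebraMap Ash Csh)]
    (Dsh : Type u) [CommRing Dsh] [IsLocalRing Dsh] [Algebra (Localization.AtPrime pD) Dsh]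
    [IsLocalHom (algebraMap (Localization.AtPrime pD) Dsh)]
    [Hensel.IsStrictHenselization (Localization.AtPrime pD) Dsh] [Algebra (B ⊗[A] C) Dsh]
    [IsScalarTower (B ⊗[A] C) (Localization.AtPrime pD) Dsh]
    [Algebra Bsh Dsh] [IsLocalHom (algebraMap Bsh Dsh)] [Algebra B Dsh] [IsScalarTower B Bsh Dsh]
    [IsScalarTower B (B ⊗[A] C) Dsh]
    [Algebra Csh Dsh] [IsLocalHom (algebraMap Csh Dsh)]
    (hC : ∀ c : C, algebraMap Csh Dsh (algebraMap C Csh c) = algebraMap (B ⊗[A] C) Dsh (1 ⊗ₜ[A] c))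
    [Algebra Ash Dsh] [IsScalarTower Ash Bsh Dsh] [IsScalarTower Ash Csh Dsh]
    [Algebra.IsIntegral Ash Bsh] [IsPurelyInseparable (ResidueField Ash) (ResidueField Bsh)]

include pB pC pD hC in
theorem bijective_lift :
    Function.Bijective (Algebra.TensorProduct.lift (IsScalarTower.toAlgHom Ash Bsh Dsh)
      (IsScalarTower.toAlgHom Ash Csh Dsh) (fun _ _ => Commute.all _ _)) := by
  haveI := Hensel.IsStrictHenselization.henselian (R := Localization.AtPrime pC) (S := Csh)
  haveI := Hensel.IsStrictHenselization.henselian (R := Localization.AtPrime pD) (S := Dsh)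
  haveI := (Hensel.IsStrictHenselization.isSepClosure (R := Localization.AtPrime pC) (S := Csh)).sep_closed
  have hsD := Hensel.IsStrictHenselization.isSepClosure (R := Localization.AtPrime pD) (S := Dsh)
  let g := Algebra.TensorProduct.lift (IsScalarTower.toAlgHom Ash Bsh Dsh)
      (IsScalarTower.toAlgHom Ash Csh Dsh) (fun _ _ => Commute.all _ _)
  have hgl : ∀ b : Bsh, g (b ⊗ₜ 1) = algebraMap Bsh Dsh b := fun b => by simp [g]
  have hgr : ∀ c : Csh, g (1 ⊗ₜ c) = algebraMap Csh Dsh c := fun c => by simp [g]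
  letI : Algebra Csh (Bsh ⊗[Ash] Csh) := Algebra.TensorProduct.rightAlgebra
  haveI : IsScalarTower Ash Csh (Bsh ⊗[Ash] Csh) := Algebra.TensorProduct.right_isScalarTower
  haveI : Algebra.IsIntegral Csh (Bsh ⊗[Ash] Csh) := ⟨fun x => by
    obtain ⟨y, rfl⟩ := (Algebra.TensorProduct.commRight Ash Csh Bsh).surjective x
    exact (Algebra.IsIntegral.isIntegral y).map (Algebra.TensorProduct.commRight Ash Csh Bsh)⟩
  -- the tensor product is local
  let P : Ideal (Bsh ⊗[Ash] Csh) := (maximalIdeal Dsh).comap g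
  haveI : P.IsPrime := Ideal.comap_isPrime g (maximalIdeal Dsh)
  have hPc : P.comap (algebraMap Csh (Bsh ⊗[Ash] Csh)) = maximalIdeal Csh := by
    ext c
    show g ((1 : Bsh) ⊗ₜ c) ∈ maximalIdeal Dsh ↔ _
    rw [hgr, mem_maximalIdeal, mem_maximalIdeal, mem_nonunits_iff, mem_nonunits_iff, isUnit_map_iff]
  haveI hPmax : P.IsMaximal := Ideal.isMaximal_of_isIntegral_of_isMaximal_comap (R := Csh) P
    (hPc ▸ maximalIdeal.isMaximal Csh)
  let mC := (maximalIdeal Csh).map (algebraMap Csh (Bsh ⊗[Ash] Csh))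
  let N := mC.radical
  have hNP : N ≤ P := Ideal.IsRadical.radical_le_iff (Ideal.IsPrime.isRadical ‹_›) |>.2 (Ideal.map_le_iff_le_comap.2 hPc.ge)
  have hNA : ∀ a ∈ maximalIdeal Ash, algebraMap Ash (Bsh ⊗[Ash] Csh) a ∈ N := fun a ha => by
    rw [IsScalarTower.algebraMap_apply Ash Csh (Bsh ⊗[Ash] Csh)]
    exact Ideal.le_radical (Ideal.mem_map_of_mem _ (map_nonunit (algebraMap Ash Csh) a ha))
  have hNB : ∀ b ∈ maximalIdeal Bsh, b ⊗ₜ[Ash] (1 : Csh) ∈ N := fun b hb => by
    obtain ⟨n, hn⟩ := maximalIdeal_le_radical (A := Ash) Bsh hb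
    have h1 : (maximalIdeal Ash).map (algebraMap Ash Bsh) ≤
        N.comap (Algebra.TensorProduct.includeLeft (R := Ash) (S := Ash) (A := Bsh) (B := Csh)) :=
      Ideal.map_le_iff_le_comap.2 fun a ha => hNA a ha
    have h2 : (b ⊗ₜ[Ash] (1 : Csh)) ^ n ∈ N := by
      rw [Algebra.TensorProduct.tmul_pow, one_pow]
      exact h1 hn
    exact Ideal.radical_isRadical mC ⟨n, h2⟩
  obtain ⟨ε, hε⟩ := ExpChar.exists (ResidueField Ash)
  let π := Ideal.Quotient.mk N
  haveI : Nontrivial ((Bsh ⊗[Ash] Csh) ⧸ N) := Ideal.Quotient.nontrivial_iff.2 fun h =>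
    Ideal.IsPrime.ne_top ‹P.IsPrime› (top_le_iff.1 (h ▸ hNP))
  let jk : ResidueField Ash →+* (Bsh ⊗[Ash] Csh) ⧸ N :=
    Ideal.Quotient.lift (maximalIdeal Ash) (π.comp (algebraMap Ash _)) fun a ha =>
      Ideal.Quotient.eq_zero_iff_mem.2 (hNA a ha)
  haveI : ExpChar ((Bsh ⊗[Ash] Csh) ⧸ N) ε := expChar_of_injective_ringHom jk.injective ε
  have hpow : ∀ t : Bsh ⊗[Ash] Csh, ∃ (n : ℕ) (c : Csh), π t ^ ε ^ n = π (algebraMap Csh _ c) := fun t => by
    induction t using TensorProduct.induction_on with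
    | zero => exact ⟨0, 0, by simp⟩
    | add x y hx hy =>
      obtain ⟨n, c, hc⟩ := hx
      obtain ⟨m, d, hd⟩ := hy
      refine ⟨n + m, c ^ ε ^ m + d ^ ε ^ n, ?_⟩
      rw [map_add π, add_pow_expChar_pow, map_add, map_add, map_pow, map_pow, map_pow, map_pow, ← hc, ← hd,
        ← pow_mul, ← pow_mul, ← pow_add, ← pow_add, Nat.add_comm m n]
    | tmul b c =>
      obtain ⟨n, r, hr⟩ := IsPurelyInseparable.pow_mem (ResidueField Ash) ε (residue Bsh b)
      obtain ⟨a, rfl⟩ := residue_surjective r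
      refine ⟨n, a • c ^ ε ^ n, ?_⟩
      rw [← map_pow, Algebra.TensorProduct.tmul_pow]
      refine Ideal.Quotient.eq.2 ?_
      have h1 : b ^ ε ^ n - algebraMap Ash Bsh a ∈ maximalIdeal Bsh := by
        rw [← residue_eq_zero_iff, map_sub, map_pow, ← hr, sub_eq_zero]
        rfl
      have h2 := N.mul_mem_right ((1 : Bsh) ⊗ₜ[Ash] (c ^ ε ^ n)) (hNB _ h1)
      rw [Algebra.TensorProduct.tmul_mul_tmul, mul_one, one_mul, sub_tmul, Algebra.algebraMap_eq_smul_one,
        smul_tmul] at h2
      exact h2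
  haveI hloc : IsLocalRing (Bsh ⊗[Ash] Csh) := IsLocalRing.of_unique_max_ideal ⟨P, hPmax, fun M hM => by
    have hMN : N ≤ M := (Ideal.IsPrime.isRadical hM.isPrime).radical_le_iff.2 (Ideal.map_le_iff_le_comap.2
      (IsLocalRing.eq_maximalIdeal (Ideal.isMaximal_comap_of_isIntegral_of_isMaximal (R := Csh) M)).ge)
    refine (hPmax.eq_of_le hM.ne_top fun x hx => ?_).symm
    obtain ⟨n, c, hc⟩ := hpow x
    rw [← map_pow, Ideal.Quotient.eq] at hc
    have hpos : 0 < ε ^ n := pow_pos (expChar_pos (ResidueField Ash) ε) n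
    have hcP : algebraMap Csh (Bsh ⊗[Ash] Csh) c ∈ P := by
      simpa using P.sub_mem (P.pow_mem_of_mem hx _ hpos) (hNP hc)
    have h3 : algebraMap Csh (Bsh ⊗[Ash] Csh) c ∈ M := hMN (Ideal.le_radical (Ideal.mem_map_of_mem _ (hPc.le hcP)))
    exact hM.isPrime.mem_of_pow_mem _ (by simpa using M.add_mem (hMN hc) h3)⟩
  obtain ⟨hT, hT'⟩ := henselianLocalRing_of_integral (A := Csh) (Bsh ⊗[Ash] Csh)
  haveI := hT
  haveI := hT'
  haveI := (residueField_of_integral (A := Csh) (Bsh ⊗[Ash] Csh)).2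
  haveI hg : IsLocalHom g.toRingHom := ⟨fun z hz => by
    by_contra h
    have : z ∈ P := (IsLocalRing.eq_maximalIdeal hPmax).ge h
    exact (mem_maximalIdeal _).1 this hz⟩
  -- the map from the tensor product of the rings
  have hAT : ∀ a : A, algebraMap A (Bsh ⊗[Ash] Csh) a = algebraMap Ash (Bsh ⊗[Ash] Csh) (algebraMap A Ash a) := fun a => by
    rw [Algebra.TensorProduct.algebraMap_apply, Algebra.TensorProduct.algebraMap_apply, IsScalarTower.algebraMap_apply A Ash Bsh]
  let ιB : Bsh →+* Bsh ⊗[Ash] Csh := Algebra.TensorProduct.includeLeftRingHom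
  let ιC : Csh →+* Bsh ⊗[Ash] Csh := algebraMap Csh (Bsh ⊗[Ash] Csh)
  let fB : B →ₐ[A] Bsh ⊗[Ash] Csh :=
    { ιB.comp (algebraMap B Bsh) with
      commutes' := fun a => by
        show ιB (algebraMap B Bsh (algebraMap A B a)) = _
        rw [← IsScalarTower.algebraMap_apply A B Bsh, hAT, IsScalarTower.algebraMap_apply A Ash Bsh]
        rfl }
  let fC : C →ₐ[A] Bsh ⊗[Ash] Csh :=
    { ιC.comp (algebraMap C Csh) with
      commutes' := fun a => by
        show ιC (algebraMap C Csh (algebraMap A C a)) = _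
        rw [← IsScalarTower.algebraMap_apply A C Csh, hAT, IsScalarTower.algebraMap_apply A Ash Csh]
        exact (IsScalarTower.algebraMap_apply Ash Csh (Bsh ⊗[Ash] Csh) _).symm }
  let jD := Algebra.TensorProduct.lift fB fC fun _ _ => Commute.all _ _
  have hgj : ∀ d, g (jD d) = algebraMap (B ⊗[A] C) Dsh d := fun d => by
    induction d using TensorProduct.induction_on with
    | zero => simp
    | add x y hx hy => simp only [map_add, hx, hy]
    | tmul b c =>
      rw [Algebra.TensorProduct.lift_tmul, map_mul,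
        show b ⊗ₜ[A] c = (b ⊗ₜ 1) * ((1 : B) ⊗ₜ c) by simp, map_mul, ← hC]
      show g (algebraMap B Bsh b ⊗ₜ 1) * g (1 ⊗ₜ algebraMap C Csh c) = _
      rw [hgl, hgr, ← IsScalarTower.algebraMap_apply B Bsh Dsh, IsScalarTower.algebraMap_apply B (B ⊗[A] C) Dsh]
      rfl
  have hu : ∀ d : pD.primeCompl, IsUnit (jD d) := fun d => hg.map_nonunit _ (by
    show IsUnit (g (jD d))
    rw [hgj, IsScalarTower.algebraMap_apply (B ⊗[A] C) (Localization.AtPrime pD) Dsh]
    exact (IsLocalization.map_units _ d).map _)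
  let σ : Localization.AtPrime pD →+* Bsh ⊗[Ash] Csh := IsLocalization.lift (g := jD.toRingHom) hu
  have hgσ : g.toRingHom.comp σ = algebraMap (Localization.AtPrime pD) Dsh :=
    IsLocalization.ringHom_ext pD.primeCompl (RingHom.ext fun d => by
      show g (σ (algebraMap _ _ d)) = _
      rw [IsLocalization.lift_eq, RingHom.comp_apply, ← IsScalarTower.algebraMap_apply]
      exact hgj d)
  haveI : IsLocalHom σ := ⟨fun z hz => by
    have h1 : IsUnit (algebraMap (Localization.AtPrime pD) Dsh z) := by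
      rw [← hgσ]; exact hz.map g
    exact IsUnit.of_map (algebraMap (Localization.AtPrime pD) Dsh) z h1⟩
  let ρ := ResidueField.map g.toRingHom
  have hρs : Function.Surjective ρ := by
    letI : Algebra (ResidueField (Bsh ⊗[Ash] Csh)) (ResidueField Dsh) := ρ.toAlgebra
    letI : Algebra (ResidueField (Localization.AtPrime pD)) (ResidueField (Bsh ⊗[Ash] Csh)) :=
      (ResidueField.map σ).toAlgebra
    haveI : IsScalarTower (ResidueField (Localization.AtPrime pD)) (ResidueField (Bsh ⊗[Ash] Csh)) (ResidueField Dsh) :=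
      IsScalarTower.of_algebraMap_eq fun x => by
        obtain ⟨z, rfl⟩ := residue_surjective x
        exact congrArg (residue Dsh) (RingHom.congr_fun hgσ z).symm
    haveI := hsD.separable
    haveI : Algebra.IsSeparable (ResidueField (Bsh ⊗[Ash] Csh)) (ResidueField Dsh) :=
      Algebra.isSeparable_tower_top_of_isSeparable (ResidueField (Localization.AtPrime pD)) _ _
    exact IsPurelyInseparable.surjective_algebraMap_of_isSeparable (ResidueField (Bsh ⊗[Ash] Csh)) (ResidueField Dsh)
  let ρe := RingEquiv.ofBijective ρ ⟨ρ.injective, hρs⟩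
  obtain ⟨ψ, ⟨hψD, hψr⟩, -⟩ := Hensel.IsStrictHenselization.universal (R := Localization.AtPrime pD) (S := Dsh)
    (Bsh ⊗[Ash] Csh) σ ρe.symm.toRingHom (RingHom.ext fun x => by
      obtain ⟨z, rfl⟩ := residue_surjective x
      exact ρe.symm_apply_eq.2 (congrArg (residue Dsh) (RingHom.congr_fun hgσ z).symm))
  have hρψ : ∀ t, residue Dsh (g (ψ t)) = residue Dsh t := fun t => by
    show ρ (residue _ (ψ t)) = _
    rw [hψr]
    exact ρe.apply_symm_apply _
  have hres : ∀ x, residue _ (ψ (g x)) = residue _ x := fun x => ρe.injective (hρψ (g x))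
  have h1 : g.toRingHom.comp ψ = RingHom.id Dsh := by
    haveI : IsLocalHom (RingHom.id Dsh) := ⟨fun _ h => h⟩
    exact strict_hom_ext (R := Localization.AtPrime pD) (g.toRingHom.comp ψ) (RingHom.id Dsh) (fun r => by
      show g (ψ _) = _
      rw [show ψ (algebraMap _ Dsh r) = σ r from RingHom.congr_fun hψD r]
      exact RingHom.congr_fun hgσ r) hρψ
  have hψj : ∀ d, ψ (algebraMap (B ⊗[A] C) Dsh d) = jD d := fun d => by
    rw [IsScalarTower.algebraMap_apply (B ⊗[A] C) (Localization.AtPrime pD) Dsh,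
      show ψ (algebraMap _ Dsh _) = σ _ from RingHom.congr_fun hψD _, IsLocalization.lift_eq]
    rfl
  haveI hιB : IsLocalHom ιB := ⟨fun b hb => by
    have : IsUnit (algebraMap Bsh Dsh b) := hgl b ▸ hb.map g
    exact IsUnit.of_map (algebraMap Bsh Dsh) b this⟩
  have hB : ψ.comp (algebraMap Bsh Dsh) = ιB := by
    refine strict_hom_ext (R := Localization.AtPrime pB) _ _ ?_ fun b => ?_
    · refine RingHom.congr_fun (IsLocalization.ringHom_ext pB.primeCompl
        (j := (ψ.comp (algebraMap Bsh Dsh)).comp (algebraMap (Localization.AtPrime pB) Bsh))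
        (k := ιB.comp (algebraMap (Localization.AtPrime pB) Bsh)) (RingHom.ext fun b => ?_))
      simp only [RingHom.comp_apply, ← IsScalarTower.algebraMap_apply B (Localization.AtPrime pB) Bsh,
        ← IsScalarTower.algebraMap_apply B Bsh Dsh]
      rw [IsScalarTower.algebraMap_apply B (B ⊗[A] C) Dsh, hψj, Algebra.TensorProduct.algebraMap_apply,
        Algebra.TensorProduct.lift_tmul, map_one, mul_one]
      rfl
    · show residue _ (ψ (algebraMap Bsh Dsh b)) = _
      rw [← hgl b]; exact hres _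
  haveI hιC : IsLocalHom ιC := hT'
  have hCC : ψ.comp (algebraMap Csh Dsh) = ιC := by
    refine strict_hom_ext (R := Localization.AtPrime pC) _ _ ?_ fun c => ?_
    · refine RingHom.congr_fun (IsLocalization.ringHom_ext pC.primeCompl
        (j := (ψ.comp (algebraMap Csh Dsh)).comp (algebraMap (Localization.AtPrime pC) Csh))
        (k := ιC.comp (algebraMap (Localization.AtPrime pC) Csh)) (RingHom.ext fun c => ?_))
      simp only [RingHom.comp_apply, ← IsScalarTower.algebraMap_apply C (Localization.AtPrime pC) Csh]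
      rw [hC, hψj, Algebra.TensorProduct.lift_tmul, map_one, one_mul]
      rfl
    · show residue _ (ψ (algebraMap Csh Dsh c)) = _
      rw [← hgr c]; exact hres _
  have h2 : ∀ x, ψ (g x) = x := fun x => by
    induction x using TensorProduct.induction_on with
    | zero => simp
    | add x y hx hy => simp only [map_add, hx, hy]
    | tmul b c =>
      rw [Algebra.TensorProduct.lift_tmul, map_mul]
      show ψ (algebraMap Bsh Dsh b) * ψ (algebraMap Csh Dsh c) = _
      rw [show ψ (algebraMap Bsh Dsh b) = ιB b from RingHom.congr_fun hB b,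
        show ψ (algebraMap Csh Dsh c) = ιC c from RingHom.congr_fun hCC c]
      show (b ⊗ₜ[Ash] (1 : Csh)) * ((1 : Bsh) ⊗ₜ c) = _
      simp
  exact ⟨Function.LeftInverse.injective (g := ψ) h2,
    Function.RightInverse.surjective (g := ψ) fun x => RingHom.congr_fun h1 x⟩

end StrictHensBCLib
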