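import Groth.Agent.QfHensFiniteLib.Basic

/-! Integral local algebras over henselian local rings. -/

set_option autoImplicit false
set_option linter.style.haveILetI false
universe u

open IsLocalRing

namespace StrictHensBCLib

variable {A : Type u} [CommRing A] [HenselianLocalRing A]

theorem surjective_atPrime_of_integral {F : Type u} [CommRing F] [Algebra A F] [Algebra.IsIntegral A F]
    (Q : Ideal F) [hQ : Q.IsMaximal] : Function.Surjective (algebraMap F (Localization.AtPrime Q)) := by
  intro z
  obtain ⟨x, ⟨s, hs⟩, rfl⟩ := IsLocalization.exists_mk'_eq Q.primeCompl z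
  let F' := Algebra.adjoin A ({s} : Set F)
  haveI : Module.Finite A F' := Module.Finite.iff_fg.mpr (IsIntegral.fg_adjoin_singleton (Algebra.IsIntegral.isIntegral s))
  haveI : Algebra.IsIntegral F' F := Algebra.IsIntegral.tower_top (R := A)
  let Q' := Q.comap (algebraMap F' F)
  haveI : Q'.IsMaximal := Ideal.isMaximal_comap_of_isIntegral_of_isMaximal Q
  let s' : F' := ⟨s, Algebra.subset_adjoin rfl⟩
  obtain ⟨t, ht⟩ := EssEtCompleteLib.surjective_atPrime (A := A) Q' (IsLocalization.mk' _ 1 (⟨s', hs⟩ : Q'.primeCompl))
  rw [IsLocalization.eq_mk'_iff_mul_eq, ← map_mul] at ht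
  obtain ⟨u, hu⟩ := (IsLocalization.eq_iff_exists Q'.primeCompl _).1 ht
  refine ⟨x * (t : F), ?_⟩
  rw [IsLocalization.eq_mk'_iff_mul_eq, ← map_mul]
  refine (IsLocalization.eq_iff_exists Q.primeCompl _).2 ⟨⟨(u : F'), u.2⟩, ?_⟩
  have h1 := congrArg Subtype.val hu
  push_cast at h1
  show ((u : F') : F) * (x * t * s) = ((u : F') : F) * x
  linear_combination x * h1

theorem maximalIdeal_le_radical (B : Type u) [CommRing B] [IsLocalRing B] [Algebra A B] [Algebra.IsIntegral A B] :
    maximalIdeal B ≤ ((maximalIdeal A).map (algebraMap A B)).radical := by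
  rw [Ideal.radical_eq_sInf]
  refine le_sInf fun P ⟨hP, hPp⟩ => ?_
  haveI := hPp
  haveI : (P.comap (algebraMap A B)).IsMaximal := by
    rw [← (IsLocalRing.maximalIdeal.isMaximal A).eq_of_le (Ideal.IsPrime.ne_top inferInstance) (Ideal.map_le_iff_le_comap.1 hP)]
    exact IsLocalRing.maximalIdeal.isMaximal A
  rw [IsLocalRing.eq_maximalIdeal (Ideal.isMaximal_of_isIntegral_of_isMaximal_comap (R := A) P ‹_›)]

theorem henselianLocalRing_of_integral (B : Type u) [CommRing B] [IsLocalRing B] [Algebra A B]
    [Algebra.IsIntegral A B] : HenselianLocalRing B ∧ IsLocalHom (algebraMap A B) := by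
  haveI : HenselianRing B ((maximalIdeal A).map (algebraMap A B)) := HenselLib.henselianRing_map_of_isIntegral
  haveI : HenselianRing B (maximalIdeal B) := HenselLib.henselianRing_of_le_radical
    (J := (maximalIdeal A).map (algebraMap A B)) (maximalIdeal_le_radical B)
  refine ⟨HenselLib.henselianLocalRing_of_henselianRing, ⟨fun a ha => by_contra fun h => ?_⟩⟩
  have hc : (maximalIdeal B).comap (algebraMap A B) = maximalIdeal A :=
    IsLocalRing.eq_maximalIdeal (Ideal.isMaximal_comap_of_isIntegral_of_isMaximal (maximalIdeal B))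
  exact (mem_maximalIdeal _).1 (show a ∈ (maximalIdeal B).comap (algebraMap A B) by rw [hc]; exact h) ha

theorem residueField_of_integral [IsSepClosed (ResidueField A)] (B : Type u) [CommRing B] [IsLocalRing B] [Algebra A B]
    [IsLocalHom (algebraMap A B)] [Algebra.IsIntegral A B] :
    IsPurelyInseparable (ResidueField A) (ResidueField B) ∧ IsSepClosed (ResidueField B) := by
  haveI : Algebra.IsIntegral (ResidueField A) (ResidueField B) := ⟨fun x => by
    obtain ⟨b, rfl⟩ := residue_surjective x
    exact ((Algebra.IsIntegral.isIntegral (R := A) b).map (IsScalarTower.toAlgHom A B (ResidueField B))).tower_top⟩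
  haveI : Algebra.IsAlgebraic (ResidueField A) (ResidueField B) := Algebra.IsIntegral.isAlgebraic
  exact ⟨inferInstance, Algebra.IsAlgebraic.isSepClosed (F := ResidueField A) (E := ResidueField B)⟩

/-- Maps out of a strict henselization are determined by the ring and the residue fields. -/
theorem strict_hom_ext {R S T : Type u} [CommRing R] [IsLocalRing R] [CommRing S] [IsLocalRing S] [Algebra R S]
    [IsLocalHom (algebraMap R S)] [Hensel.IsStrictHenselization R S] [CommRing T] [HenselianLocalRing T]
    (v w : S →+* T) [IsLocalHom w] (h1 : ∀ r, v (algebraMap R S r) = w (algebraMap R S r))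
    (h2 : ∀ s, residue T (v s) = residue T (w s)) : v = w := by
  obtain ⟨z, -, hz⟩ := Hensel.IsStrictHenselization.universal (R := R) (S := S) T (w.comp (algebraMap R S))
    (ResidueField.map w) (RingHom.ext fun x => by
      obtain ⟨r, rfl⟩ := residue_surjective x
      rfl)
  exact (hz v ⟨RingHom.ext h1, h2⟩).trans (hz w ⟨rfl, fun _ => rfl⟩).symm

end StrictHensBCLib
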