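import Groth.Agent.StrictHensBCLib.IndQf

/-! Strict henselizations are integral when the local ring is ind-quasi-finite over the local ring. -/

set_option autoImplicit false
set_option linter.style.haveILetI false
set_option maxHeartbeats 1600000
universe u

open IsLocalRing TensorProduct

namespace StrictHensBCLib

open PairHensLib QfHensFiniteLib

variable {R S Rh Sh : Type u} [CommRing R] [CommRing S] [Algebra R S] {p : Ideal R} [p.IsPrime] {q : Ideal S} [q.IsPrime]
  [hlo : q.LiesOver p] [CommRing Rh] [IsLocalRing Rh] [Algebra (Localization.AtPrime p) Rh]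
  [IsLocalHom (algebraMap (Localization.AtPrime p) Rh)] [Algebra R Rh] [IsScalarTower R (Localization.AtPrime p) Rh]
  [CommRing Sh] [IsLocalRing Sh] [Algebra (Localization.AtPrime q) Sh]
  [IsLocalHom (algebraMap (Localization.AtPrime q) Sh)] [Algebra S Sh]
  [IsScalarTower S (Localization.AtPrime q) Sh] [Algebra R Sh] [IsScalarTower R S Sh]
  [Algebra Rh Sh] [IsScalarTower R Rh Sh]
  [Algebra (Localization.AtPrime p) (Localization.AtPrime q)]
  [IsScalarTower R (Localization.AtPrime p) (Localization.AtPrime q)]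

theorem isIntegral_tensorPrime_of_localized [HenselianLocalRing Rh] [IsLocalHom (algebraMap Rh Sh)]
    (hB : ∀ s : Finset (Localization.AtPrime q),
      ∃ B₀ : Subalgebra (Localization.AtPrime p) (Localization.AtPrime q),
      (↑s : Set (Localization.AtPrime q)) ⊆ ↑B₀ ∧
      Algebra.FiniteType (Localization.AtPrime p) ↥B₀ ∧ Algebra.QuasiFinite (Localization.AtPrime p) ↥B₀) :
    Algebra.IsIntegral Rh (Localization.AtPrime (tensorPrime R S Rh Sh)) := by
  classical
  let T := Rh ⊗[R] S
  let L := Localization.AtPrime (tensorPrime R S Rh Sh)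
  let jS : S →+* L := (algebraMap T L).comp (Algebra.TensorProduct.includeRight : S →ₐ[R] T).toRingHom
  have hjS : ∀ y : q.primeCompl, IsUnit (jS y) := fun y => by
    refine IsLocalization.map_units L (⟨(1 : Rh) ⊗ₜ[R] (y : S), ?_⟩ : (tensorPrime R S Rh Sh).primeCompl)
    show (1 : Rh) ⊗ₜ[R] (y : S) ∉ tensorPrime R S Rh Sh
    rw [Ideal.mem_comap, mulTensor_right, mem_maximalIdeal, mem_nonunits_iff, not_not,
      IsScalarTower.algebraMap_apply S (Localization.AtPrime q) Sh]
    exact (IsLocalization.map_units (Localization.AtPrime q) y).map _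
  have hjR : ∀ r : R, jS (algebraMap R S r) = algebraMap Rh L (algebraMap R Rh r) := fun r => by
    show algebraMap T L ((1 : Rh) ⊗ₜ[R] algebraMap R S r) = algebraMap Rh L (algebraMap R Rh r)
    rw [IsScalarTower.algebraMap_apply Rh T L, Algebra.algebraMap_eq_smul_one r,
      Algebra.algebraMap_eq_smul_one r, TensorProduct.tmul_smul, TensorProduct.smul_tmul']
    rfl
  let jq : Localization.AtPrime q →ₐ[Localization.AtPrime p] L :=
    { IsLocalization.lift hjS with
      commutes' := by
        intro z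
        have h : (IsLocalization.lift hjS).comp (algebraMap (Localization.AtPrime p) (Localization.AtPrime q)) =
            (algebraMap (Localization.AtPrime p) L) := by
          refine IsLocalization.ringHom_ext p.primeCompl (RingHom.ext fun r => ?_)
          simp only [RingHom.comp_apply]
          rw [← IsScalarTower.algebraMap_apply, IsScalarTower.algebraMap_apply R S (Localization.AtPrime q),
            IsLocalization.lift_eq, hjR, IsScalarTower.algebraMap_apply (Localization.AtPrime p) Rh L,
            ← IsScalarTower.algebraMap_apply R (Localization.AtPrime p) Rh]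
        exact RingHom.congr_fun h z }
  let Ψ : Rh ⊗[Localization.AtPrime p] Localization.AtPrime q →ₐ[Rh] L :=
    Algebra.TensorProduct.lift (Algebra.ofId Rh L) jq (fun _ _ => Commute.all _ _)
  have hΨ : ∀ w : T, ∃ w', Ψ w' = algebraMap T L w := by
    intro w
    induction w using TensorProduct.induction_on with
    | zero => exact ⟨0, by rw [map_zero, map_zero]⟩
    | add x y hx hy =>
      obtain ⟨x', hx⟩ := hx
      obtain ⟨y', hy⟩ := hy
      exact ⟨x' + y', by rw [map_add, map_add, hx, hy]⟩
    | tmul a b =>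
      refine ⟨a ⊗ₜ algebraMap S _ b, ?_⟩
      have e : (a ⊗ₜ[R] b : T) = algebraMap Rh T a * (1 ⊗ₜ b) := by simp [T]
      rw [e, map_mul, ← IsScalarTower.algebraMap_apply Rh T L, Algebra.TensorProduct.lift_tmul]
      exact congrArg _ (IsLocalization.lift_eq hjS b)
  refine ⟨fun z => ?_⟩
  obtain ⟨x, ⟨y, hy⟩, rfl⟩ := IsLocalization.exists_mk'_eq (tensorPrime R S Rh Sh).primeCompl z
  obtain ⟨x', hx'⟩ := hΨ x
  obtain ⟨y', hy'⟩ := hΨ y
  obtain ⟨s, hs⟩ := exists_finset_mem_range x'
  obtain ⟨t, ht⟩ := exists_finset_mem_range y'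
  obtain ⟨B₀, hB₀, hft, hqf⟩ := hB (s ∪ t)
  haveI := hft
  haveI := hqf
  obtain ⟨x₀, rfl⟩ := hs B₀ fun b hb => hB₀ (by simp [Finset.mem_coe.1 hb])
  obtain ⟨y₀, rfl⟩ := ht B₀ fun b hb => hB₀ (by simp [Finset.mem_coe.1 hb])
  let h : Rh ⊗[Localization.AtPrime p] B₀ →ₐ[Rh] L :=
    Ψ.comp (Algebra.TensorProduct.map (AlgHom.id Rh Rh) B₀.val)
  let Q₀ := (maximalIdeal L).comap h
  haveI : Q₀.IsPrime := Ideal.comap_isPrime h (maximalIdeal L)
  have hmem : ∀ w : T, algebraMap T L w ∈ maximalIdeal L ↔ w ∈ tensorPrime R S Rh Sh := fun w =>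
    IsLocalization.AtPrime.to_map_mem_maximal_iff L (tensorPrime R S Rh Sh) w
  haveI : Module.Finite Rh (Localization.AtPrime Q₀) := QfHensFiniteLib.finite_atPrime (A := Rh) Q₀ (by
    ext r
    show h (algebraMap Rh _ r) ∈ maximalIdeal L ↔ r ∈ maximalIdeal Rh
    rw [h.commutes, IsScalarTower.algebraMap_apply Rh T L, hmem]
    show (r ⊗ₜ[R] (1 : S)) ∈ tensorPrime R S Rh Sh ↔ _
    rw [Ideal.mem_comap, mulTensor_left, mem_maximalIdeal, mem_maximalIdeal, mem_nonunits_iff, mem_nonunits_iff,
      isUnit_map_iff (algebraMap Rh Sh)])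
  have hu : ∀ d : Q₀.primeCompl, IsUnit (h d) := fun d => of_not_not fun hn => d.2 hn
  let η : Localization.AtPrime Q₀ →ₐ[Rh] L := IsLocalization.liftAlgHom hu
  have hy₀ : y₀ ∈ Q₀.primeCompl := fun hc => hy ((hmem y).1 (hy' ▸ hc))
  have heq : η (IsLocalization.mk' _ x₀ (⟨y₀, hy₀⟩ : Q₀.primeCompl)) =
      IsLocalization.mk' L x (⟨y, hy⟩ : (tensorPrime R S Rh Sh).primeCompl) := by
    rw [IsLocalization.eq_mk'_iff_mul_eq]
    have e1 : ∀ w, η (algebraMap _ (Localization.AtPrime Q₀) w) = h w := fun w => IsLocalization.lift_eq hu w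
    rw [← hx', ← hy']
    show η _ * h y₀ = h x₀
    rw [← e1, ← e1, ← map_mul, IsLocalization.mk'_spec]
  exact heq ▸ (Algebra.IsIntegral.isIntegral _).map η

include p q hlo in
theorem integral_strictHenselization_of_localized [Hensel.IsStrictHenselization (Localization.AtPrime p) Rh]
    [Hensel.IsStrictHenselization (Localization.AtPrime q) Sh] [IsLocalHom (algebraMap Rh Sh)]
    (hB : ∀ s : Finset (Localization.AtPrime q),
      ∃ B₀ : Subalgebra (Localization.AtPrime p) (Localization.AtPrime q),
      (↑s : Set (Localization.AtPrime q)) ⊆ ↑B₀ ∧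
      Algebra.FiniteType (Localization.AtPrime p) ↥B₀ ∧ Algebra.QuasiFinite (Localization.AtPrime p) ↥B₀) :
    Algebra.IsIntegral Rh Sh ∧ IsPurelyInseparable (ResidueField Rh) (ResidueField Sh) := by
  haveI := Hensel.IsStrictHenselization.henselian (R := Localization.AtPrime p) (S := Rh)
  haveI := (Hensel.IsStrictHenselization.isSepClosure (R := Localization.AtPrime p) (S := Rh)).sep_closed
  haveI := isIntegral_tensorPrime_of_localized (R := R) (S := S) (Rh := Rh) (Sh := Sh) hB
  obtain ⟨hD, hD'⟩ := henselianLocalRing_of_integral (A := Rh) (Localization.AtPrime (tensorPrime R S Rh Sh))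
  haveI := hD
  haveI := hD'
  haveI := (residueField_of_integral (A := Rh) (Localization.AtPrime (tensorPrime R S Rh Sh))).2
  haveI := isStrictHenselization_self (Localization.AtPrime (tensorPrime R S Rh Sh))
  obtain ⟨e, he⟩ := exists_equiv_strictHenselization (R := R) (S := S) (Rh := Rh) (Sh := Sh) (p := p) (q := q)
    (E := Localization.AtPrime (tensorPrime R S Rh Sh))
  let e' : Localization.AtPrime (tensorPrime R S Rh Sh) ≃ₐ[Rh] Sh := AlgEquiv.ofRingEquiv (f := e) fun r => by
    have h1 := he (r ⊗ₜ (1 : S))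
    rw [mulTensor_left, Algebra.algebraMap_self, RingHom.id_apply] at h1
    exact h1
  haveI : Algebra.IsIntegral Rh Sh := ⟨fun x => by
    obtain ⟨z, rfl⟩ := e'.surjective x
    exact (Algebra.IsIntegral.isIntegral z).map e'⟩
  exact ⟨inferInstance, (residueField_of_integral (A := Rh) Sh).1⟩

end StrictHensBCLib
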